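import Cfsg.Agent.H6.Ly.M.D0

set_option autoImplicit false
set_option maxRecDepth 100000
set_option Elab.async false

namespace Cfsg.H6.Ly.M

theorem v67_0 : dvChk tab67 67 2 11 [[1]] [] [0,1,2,3,4,5,6,7,8,9,10,11,12,13,14,15,16,17,18,19,20,21,22,23,24,25,26,27,28,29,30,31,32,33,34,35,36,37,38,39,40,41,42,43,44,45,46,47,48,49,50,51,52,53,54,55,56,57,58,59,60,61,62,63,64,65,66] (unp 66 (nat_lit 0x37000000210000002e0000002b000000010000001b0000003a0000001d00000023000000220000002f0000001e00000003000000070000000400000002000000110000000e0000002c00000032000000270000001a0000003100000016000000360000002500000020000000260000001c00000028000000100000000a00000014000000000000001300000033000000350000002a0000002d0000000600000029000000420000003f0000001700000040000000380000000d0000003b0000000c000000080000003c0000003e0000001f000000240000004100000009000000300000003d0000003900000034000000150000000f0000001800000012000000050000000b00)) = true := by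
  decide +kernel


theorem l2_0 : allR (P.lab1 1 code (nthN [0,104,108,110]) g2 tab2 42 4) 0 42 = true := by
  decide +kernel

theorem v2_6 : dvChk tab2 42 4 32 [[1,1,1,1]] [] [3,32] (unp 1 (nat_lit 0x2000)) = true := by
  decide +kernel

theorem v2_5 : dvChk tab2 42 4 25 [[1,1,2,2]] [[1,1,1,1]] [22,25] (unp 1 (nat_lit 0x1900)) = true := by
  decide +kernel

theorem v2_4 : dvChk tab2 42 4 2 [[1,1]] [[1,1,2,2], [1,1,1,1]] [2,28] (unp 1 (nat_lit 0x200)) = true := by
  decide +kernel

theorem v2_3 : dvChk tab2 42 4 20 [[2,3,2,3]] [[1,1], [1,1,2,2], [1,1,1,1]] [20,26] (unp 1 (nat_lit 0x1400)) = true := by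
  decide +kernel

theorem v2_2 : dvChk tab2 42 4 5 [[2]] [[2,3,2,3], [1,1], [1,1,2,2], [1,1,1,1]] [5,21] (unp 1 (nat_lit 0x500)) = true := by
  decide +kernel

theorem v2_1 : dvChk tab2 42 4 29 [[1,3,1]] [[2], [2,3,2,3], [1,1], [1,1,2,2], [1,1,1,1]] [29,39] (unp 1 (nat_lit 0x1d00)) = true := by
  decide +kernel

theorem v2_0 : dvChk tab2 42 4 12 [[1]] [[1,3,1], [2], [2,3,2,3], [1,1], [1,1,2,2], [1,1,1,1]] [12,29,39,40] (unp 3 (nat_lit 0x270000001d0100000c00)) = true := by
  decide +kernel


theorem l3_0 : allR (P.lab1 1 code (nthN [0,137,139,140]) g3 tab3 57 4) 0 57 = true := by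
  decide +kernel

theorem v3_4 : dvChk tab3 57 4 20 [[1,1,3,1,3,3]] [] [20,31,41] (unp 2 (nat_lit 0x1f0000001400)) = true := by
  decide +kernel

theorem v3_3 : dvChk tab3 57 4 4 [[1,1,3,2,3,2,2]] [[1,1,3,1,3,3]] [0,4,8] (unp 2 (nat_lit 0x80000000400)) = true := by
  decide +kernel

theorem v3_2 : dvChk tab3 57 4 43 [[2,1,2,2,3]] [[1,1,3,2,3,2,2], [1,1,3,1,3,3]] [12,33,43] (unp 2 (nat_lit 0x210000002b00)) = true := by
  decide +kernel

theorem v3_1 : dvChk tab3 57 4 56 [[1], [3]] [[2,1,2,2,3], [1,1,3,2,3,2,2], [1,1,3,1,3,3]] [0,4,5,6,8,10,11,12,15,17,18,19,21,27,28,29,30,33,35,37,40,43,45,48,52,54,56] (unp 26 (nat_lit 0x210100001e0100001b0100001b00000012010000120000000001000000000000040200002d0100000a0100000f0100000c010000050100000f0000000401000004000000080200001c0100001301000011010000110000001c0000000b0100002b0000003800)) = true := by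
  decide +kernel

theorem v3_0 : dvChk tab3 57 4 9 [[2]] [[1], [3], [2,1,2,2,3], [1,1,3,2,3,2,2], [1,1,3,1,3,3]] [7,9,14] (unp 2 (nat_lit 0x70000000900)) = true := by
  decide +kernel



end Cfsg.H6.Ly.M
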