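import Cfsg.Agent.H6.Ly.M.B0
import Cfsg.Agent.H6.Ly.M.B1
import Cfsg.Agent.H6.Ly.M.B2
import Cfsg.Agent.H6.Ly.M.B3
import Cfsg.Agent.H6.Ly.M.B4
import Cfsg.Agent.H6.Ly.M.B5
import Cfsg.Agent.H6.Ly.M.B6
import Cfsg.Agent.H6.Ly.M.B7
import Cfsg.Agent.H6.Ly.M.B8
import Cfsg.Agent.H6.Ly.M.B9
import Cfsg.Agent.H6.Ly.M.B10
import Cfsg.Agent.H6.Ly.M.B11
import Cfsg.Agent.H6.Ly.M.B12
import Cfsg.Agent.H6.Ly.M.B13
import Cfsg.Agent.H6.Ly.M.B14
import Cfsg.Agent.H6.Ly.Pres

set_option autoImplicit false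
set_option maxRecDepth 100000
set_option Elab.async false

namespace Cfsg.H6.Ly.M

def sg : List (List ℕ) := [[], [1], [2], [3], [4], [5], [6], [7], [8], [9], [10], [11], [12], [13], [14], [15], [16], [17], [18], [19], [20], [21], [22], [23], [24], [25], [26], [27], [28], [29], [30], [31], [32], [33], [34], [35], [36], [37], [38], [39], [40], [41], [42], [43], [44], [45], [46], [47], [48], [49], [50], [51], [52], [53], [54], [55], [56], [57], [58], [59], [60], [61], [62], [63], [64], [65], [66], [67], [68], [69], [70], [71], [72], [73], [74], [75], [76], [77], [78], [5,77,5,3,7], [5,77,5,3,7,5], [5,77,5,3,7,1], [1,3], [72,5,77,5,3,7,71,7], [49,7,50,77], [1,1], [1,3], [2,4,1,3], [7,27]]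

theorem ex : Ex (P.mat code) sg 89 :=
  (((((((((((Ex.base (m := 79) (by decide +kernel)).step (Par.def_of_chk ok d79) (by decide +kernel)).step (Par.def_of_chk ok d80) (by decide +kernel)).step (Par.def_of_chk ok d81) (by decide +kernel)).step (Par.def_of_chk ok d82) (by decide +kernel)).step (Par.def_of_chk ok d83) (by decide +kernel)).step (Par.def_of_chk ok d84) (by decide +kernel)).step (Par.def_of_chk ok d85) (by decide +kernel)).step (Par.def_of_chk ok d86) (by decide +kernel)).step (Par.def_of_chk ok d87) (by decide +kernel)).step (Par.def_of_chk ok d88) (by decide +kernel))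

def R2 : List (List ℕ) := [[85,85,85,85], [3,3,3,3,3], [86,86,86,86], [2,2,4,1,1,3], [87,87,87], [19,6], [21,2,6,1], [23,4,6,3], [25,3,6,4], [27,22,20,21,19], [19,19,19,19,19], [27,27,27,27,27], [20,28,19,27], [22,28,21,27], [24,28,23,27], [26,28,25,27], [20,24,19,23,27,27], [20,26,19,25,28,28], [22,24,21,23,27], [22,26,21,25], [24,26,23,25,27], [2,21,1,19,19], [2,23,1,26,20,23,23], [2,25,1,26,20,26,23,21,20], [2,27,1,28,28], [4,21,3,25,19,25,24,22], [4,23,3,23,23,26,20,20], [4,27,3,28], [9,8,20,8,3,2,4,20,8,2,20,1,20,2,19,1,3,3], [9,9], [10,19,9,19,4,24,4], [10,23,9,1,25,19,22,2,4,4], [10,25,9,26,23,4,4], [10,27,9,25,20,23,20], [9,1,1,9,25,28,20,2,3,2,4,4,2], [10,3,9,25,25,23,20], [9,1,3,3,1,4,1,9,25,28,20,2,2], [9,21,9,22,9,21,26,1,23,1,1,1], [7,10,4,21,2,10,2,10,2,27,25,19,3,1,4,4,2], [7,7,2,2,2,2], [4,8,3,7], [8,1,7,2,2,2], [88,88,88,88,88], [7,27,7,28,7,27,2,2], [11,2], [13,3,2,4], [15,3,3,2,4,4], [17,4,4,2,3,3], [29,2,2], [31,8], [33,7],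 [35,4,6,1,4,4,5,8,5,1,6,2,5,4,4,1,3,1,4,4], [37,6,4,6,8,3,3,6,8,3,6,4,6,2,5,4,4,1,4,4,1,4,2], [39,7,5,4,1,5,1,7,5], [41,8,4], [43,3,7], [45,2,4,5,2,3,5,4,1,3,1], [47,4,6,4,1,6,2,3,3], [49,2,4,2,6,1,3,1], [51,4,2,3,6,4,1,3], [53,5,3,3,6,2,4,6,3,1,4,4], [55,1,1,1], [57,1,1,3,1,4], [59,1,3,3,2,4,4,2], [61,3,2,4,2,3,2,5,1,3,5,4,7,5,4,1,5,3,8,1], [63,7,3,6,1,6,2,6,8,5,5,1,4,5,4,6,1,3,3,2], [65,6,4,6,8,3,3,6,8,4,6,4,4,6,3,1,3,3,1,3,2,4], [67,3,1,4,2,4,4,2,4,5,3,3,5,3,7,5,4,4,7,5,3,5], [69,3,3,1,3,5,3,3,6,2,5,1,7,5,2,3,5,2,7,5,1], [71,3,2,3,3,2,3,5,3,1,4,7,5,3,1,4,7,5,1], [73,1,4,1,3,3,1,6,1,3,2,7,5,1,6,4,6,2,7], [75,4,1,3,1,3,6,2,6,1,6,7,5,4,6,1,5], [78,19,77,46], [78,21,77,48], [78,23,77,50], [78,25,77,52], [78,27,77,54], [78,11,77,56], [78,13,77,58], [78,15,77,60], [77,77,30], [17,77,17,77,17,77,29], [39,77,61,77,69,77], [78,33,78,71,77,31,77,37], [77,65,77,63,78,67,78,73], [77,41,77,35,78,43,78,75], [1,2], [3,4], [5,6], [7,8], [9,10], [11,12],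 [13,14], [15,16], [17,18], [19,20], [21,22], [23,24], [25,26], [27,28], [29,30], [31,32], [33,34], [35,36], [37,38], [39,40], [41,42], [43,44], [45,46], [47,48], [49,50], [51,52], [53,54], [55,56], [57,58], [59,60], [61,62], [63,64], [65,66], [67,68], [69,70], [71,72], [73,74], [75,76], [77,78]]

theorem ones : ∀ r ∈ R2, mpr (P.mat code) r = 1 :=
  (List.forall_mem_cons.mpr ⟨Par.one_of_chk ok (by decide) r0, (List.forall_mem_cons.mpr ⟨Par.one_of_chk ok (by decide) r1, (List.forall_mem_cons.mpr ⟨Par.one_of_chk ok (by decide) r2, (List.forall_mem_cons.mpr ⟨Par.one_of_chk ok (by decide) r3, (List.forall_mem_cons.mpr ⟨Par.one_of_chk ok (by decide) r4, (List.forall_mem_cons.mpr ⟨Par.one_of_chk ok (by decide) r5, (List.forall_mem_cons.mpr ⟨Par.one_of_chk ok (by decide) r6, (List.forall_mem_cons.mpr ⟨Par.one_of_chk ok (by decide) r7, (List.forall_mem_cons.mpr ⟨Par.one_of_chk ok (by decide) r8, (List.forall_mem_cons.mpr ⟨Par.one_of_chk ok (by decide)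 r9, (List.forall_mem_cons.mpr ⟨Par.one_of_chk ok (by decide) r10, (List.forall_mem_cons.mpr ⟨Par.one_of_chk ok (by decide) r11, (List.forall_mem_cons.mpr ⟨Par.one_of_chk ok (by decide) r12, (List.forall_mem_cons.mpr ⟨Par.one_of_chk ok (by decide) r13, (List.forall_mem_cons.mpr ⟨Par.one_of_chk ok (by decide) r14, (List.forall_mem_cons.mpr ⟨Par.one_of_chk ok (by decide) r15, (List.forall_mem_cons.mpr ⟨Par.one_of_chk ok (by decide) r16, (List.forall_mem_cons.mpr ⟨Par.one_of_chk ok (by decide) r17, (List.forall_mem_cons.mpr ⟨Par.one_of_chk ok (by decide) r18, (List.forall_mem_cons.mpr ⟨Par.one_of_chk ok (by decide) r19, (List.forall_mem_cons.mpr ⟨Par.one_of_chk ok (by decide) r20, (List.forall_mem_cons.mpr ⟨Par.one_of_chk ok (by decide) r21, (List.forall_mem_cons.mpr ⟨Par.one_of_chk ok (by decide) r22, (List.forall_mem_cons.mpr ⟨Par.one_of_chk ok (by decide) r23, (List.forall_mem_cons.mpr ⟨Par.one_of_chk ok (by decide) r24, (List.forall_mem_cons.mpr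 ⟨Par.one_of_chk ok (by decide) r25, (List.forall_mem_cons.mpr ⟨Par.one_of_chk ok (by decide) r26, (List.forall_mem_cons.mpr ⟨Par.one_of_chk ok (by decide) r27, (List.forall_mem_cons.mpr ⟨Par.one_of_chk ok (by decide) r28, (List.forall_mem_cons.mpr ⟨Par.one_of_chk ok (by decide) r29, (List.forall_mem_cons.mpr ⟨Par.one_of_chk ok (by decide) r30, (List.forall_mem_cons.mpr ⟨Par.one_of_chk ok (by decide) r31, (List.forall_mem_cons.mpr ⟨Par.one_of_chk ok (by decide) r32, (List.forall_mem_cons.mpr ⟨Par.one_of_chk ok (by decide) r33, (List.forall_mem_cons.mpr ⟨Par.one_of_chk ok (by decide) r34, (List.forall_mem_cons.mpr ⟨Par.one_of_chk ok (by decide) r35, (List.forall_mem_cons.mpr ⟨Par.one_of_chk ok (by decide) r36, (List.forall_mem_cons.mpr ⟨Par.one_of_chk ok (by decide) r37, (List.forall_mem_cons.mpr ⟨Par.one_of_chk ok (by decide) r38, (List.forall_mem_cons.mpr ⟨Par.one_of_chk ok (by decide) r39, (List.forall_mem_cons.mpr ⟨Par.one_of_chk ok (by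 decide) r40, (List.forall_mem_cons.mpr ⟨Par.one_of_chk ok (by decide) r41, (List.forall_mem_cons.mpr ⟨Par.one_of_chk ok (by decide) r42, (List.forall_mem_cons.mpr ⟨Par.one_of_chk ok (by decide) r43, (List.forall_mem_cons.mpr ⟨Par.one_of_chk ok (by decide) r44, (List.forall_mem_cons.mpr ⟨Par.one_of_chk ok (by decide) r45, (List.forall_mem_cons.mpr ⟨Par.one_of_chk ok (by decide) r46, (List.forall_mem_cons.mpr ⟨Par.one_of_chk ok (by decide) r47, (List.forall_mem_cons.mpr ⟨Par.one_of_chk ok (by decide) r48, (List.forall_mem_cons.mpr ⟨Par.one_of_chk ok (by decide) r49, (List.forall_mem_cons.mpr ⟨Par.one_of_chk ok (by decide) r50, (List.forall_mem_cons.mpr ⟨Par.one_of_chk ok (by decide) r51, (List.forall_mem_cons.mpr ⟨Par.one_of_chk ok (by decide) r52, (List.forall_mem_cons.mpr ⟨Par.one_of_chk ok (by decide) r53, (List.forall_mem_cons.mpr ⟨Par.one_of_chk ok (by decide) r54, (List.forall_mem_cons.mpr ⟨Par.one_of_chk ok (by decide) r55, (List.forall_mem_cons.mpr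 ⟨Par.one_of_chk ok (by decide) r56, (List.forall_mem_cons.mpr ⟨Par.one_of_chk ok (by decide) r57, (List.forall_mem_cons.mpr ⟨Par.one_of_chk ok (by decide) r58, (List.forall_mem_cons.mpr ⟨Par.one_of_chk ok (by decide) r59, (List.forall_mem_cons.mpr ⟨Par.one_of_chk ok (by decide) r60, (List.forall_mem_cons.mpr ⟨Par.one_of_chk ok (by decide) r61, (List.forall_mem_cons.mpr ⟨Par.one_of_chk ok (by decide) r62, (List.forall_mem_cons.mpr ⟨Par.one_of_chk ok (by decide) r63, (List.forall_mem_cons.mpr ⟨Par.one_of_chk ok (by decide) r64, (List.forall_mem_cons.mpr ⟨Par.one_of_chk ok (by decide) r65, (List.forall_mem_cons.mpr ⟨Par.one_of_chk ok (by decide) r66, (List.forall_mem_cons.mpr ⟨Par.one_of_chk ok (by decide) r67, (List.forall_mem_cons.mpr ⟨Par.one_of_chk ok (by decide) r68, (List.forall_mem_cons.mpr ⟨Par.one_of_chk ok (by decide) r69, (List.forall_mem_cons.mpr ⟨Par.one_of_chk ok (by decide) r70, (List.forall_mem_cons.mpr ⟨Par.one_of_chk ok (by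 decide) r71, (List.forall_mem_cons.mpr ⟨Par.one_of_chk ok (by decide) r72, (List.forall_mem_cons.mpr ⟨Par.one_of_chk ok (by decide) r73, (List.forall_mem_cons.mpr ⟨Par.one_of_chk ok (by decide) r74, (List.forall_mem_cons.mpr ⟨Par.one_of_chk ok (by decide) r75, (List.forall_mem_cons.mpr ⟨Par.one_of_chk ok (by decide) r76, (List.forall_mem_cons.mpr ⟨Par.one_of_chk ok (by decide) r77, (List.forall_mem_cons.mpr ⟨Par.one_of_chk ok (by decide) r78, (List.forall_mem_cons.mpr ⟨Par.one_of_chk ok (by decide) r79, (List.forall_mem_cons.mpr ⟨Par.one_of_chk ok (by decide) r80, (List.forall_mem_cons.mpr ⟨Par.one_of_chk ok (by decide) r81, (List.forall_mem_cons.mpr ⟨Par.one_of_chk ok (by decide) r82, (List.forall_mem_cons.mpr ⟨Par.one_of_chk ok (by decide) r83, (List.forall_mem_cons.mpr ⟨Par.one_of_chk ok (by decide) r84, (List.forall_mem_cons.mpr ⟨Par.one_of_chk ok (by decide) r85, (List.forall_mem_cons.mpr ⟨Par.one_of_chk ok (by decide) r86, (List.forall_mem_cons.mpr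 ⟨Par.one_of_chk ok (by decide) r87, (List.forall_mem_cons.mpr ⟨Par.one_of_chk ok (by decide) r88, (List.forall_mem_cons.mpr ⟨Par.one_of_chk ok (by decide) r89, (List.forall_mem_cons.mpr ⟨Par.one_of_chk ok (by decide) r90, (List.forall_mem_cons.mpr ⟨Par.one_of_chk ok (by decide) r91, (List.forall_mem_cons.mpr ⟨Par.one_of_chk ok (by decide) r92, (List.forall_mem_cons.mpr ⟨Par.one_of_chk ok (by decide) r93, (List.forall_mem_cons.mpr ⟨Par.one_of_chk ok (by decide) r94, (List.forall_mem_cons.mpr ⟨Par.one_of_chk ok (by decide) r95, (List.forall_mem_cons.mpr ⟨Par.one_of_chk ok (by decide) r96, (List.forall_mem_cons.mpr ⟨Par.one_of_chk ok (by decide) r97, (List.forall_mem_cons.mpr ⟨Par.one_of_chk ok (by decide) r98, (List.forall_mem_cons.mpr ⟨Par.one_of_chk ok (by decide) r99, (List.forall_mem_cons.mpr ⟨Par.one_of_chk ok (by decide) r100, (List.forall_mem_cons.mpr ⟨Par.one_of_chk ok (by decide) r101, (List.forall_mem_cons.mpr ⟨Par.one_of_chk ok (by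 decide) r102, (List.forall_mem_cons.mpr ⟨Par.one_of_chk ok (by decide) r103, (List.forall_mem_cons.mpr ⟨Par.one_of_chk ok (by decide) r104, (List.forall_mem_cons.mpr ⟨Par.one_of_chk ok (by decide) r105, (List.forall_mem_cons.mpr ⟨Par.one_of_chk ok (by decide) r106, (List.forall_mem_cons.mpr ⟨Par.one_of_chk ok (by decide) r107, (List.forall_mem_cons.mpr ⟨Par.one_of_chk ok (by decide) r108, (List.forall_mem_cons.mpr ⟨Par.one_of_chk ok (by decide) r109, (List.forall_mem_cons.mpr ⟨Par.one_of_chk ok (by decide) r110, (List.forall_mem_cons.mpr ⟨Par.one_of_chk ok (by decide) r111, (List.forall_mem_cons.mpr ⟨Par.one_of_chk ok (by decide) r112, (List.forall_mem_cons.mpr ⟨Par.one_of_chk ok (by decide) r113, (List.forall_mem_cons.mpr ⟨Par.one_of_chk ok (by decide) r114, (List.forall_mem_cons.mpr ⟨Par.one_of_chk ok (by decide) r115, (List.forall_mem_cons.mpr ⟨Par.one_of_chk ok (by decide) r116, (List.forall_mem_cons.mpr ⟨Par.one_of_chk ok (by decide)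 r117, (List.forall_mem_cons.mpr ⟨Par.one_of_chk ok (by decide) r118, (List.forall_mem_cons.mpr ⟨Par.one_of_chk ok (by decide) r119, (List.forall_mem_cons.mpr ⟨Par.one_of_chk ok (by decide) r120, (List.forall_mem_cons.mpr ⟨Par.one_of_chk ok (by decide) r121, (List.forall_mem_cons.mpr ⟨Par.one_of_chk ok (by decide) r122, (List.forall_mem_cons.mpr ⟨Par.one_of_chk ok (by decide) r123, (List.forall_mem_cons.mpr ⟨Par.one_of_chk ok (by decide) r124, (by simp)⟩)⟩)⟩)⟩)⟩)⟩)⟩)⟩)⟩)⟩)⟩)⟩)⟩)⟩)⟩)⟩)⟩)⟩)⟩)⟩)⟩)⟩)⟩)⟩)⟩)⟩)⟩)⟩)⟩)⟩)⟩)⟩)⟩)⟩)⟩)⟩)⟩)⟩)⟩)⟩)⟩)⟩)⟩)⟩)⟩)⟩)⟩)⟩)⟩)⟩)⟩)⟩)⟩)⟩)⟩)⟩)⟩)⟩)⟩)⟩)⟩)⟩)⟩)⟩)⟩)⟩)⟩)⟩)⟩)⟩)⟩)⟩)⟩)⟩)⟩)⟩)⟩)⟩)⟩)⟩)⟩)⟩)⟩)⟩)⟩)⟩)⟩)⟩)⟩)⟩)⟩)⟩)⟩)⟩)⟩)⟩)⟩)⟩)⟩)⟩)⟩)⟩)⟩)⟩)⟩)⟩)⟩)⟩)⟩)⟩)⟩)⟩)⟩)⟩)⟩)⟩)⟩)⟩)⟩)⟩)⟩)⟩)⟩)⟩)⟩)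

abbrev Mx : Type := Matrix (Fin P.d) (Fin P.d) (ZMod P.q)

theorem rep : ∃ μ : Spor.Ly →* Mx, ∀ x, 1 ≤ x → x < 79 → μ (Ly.ev x) = P.mat code x := by
  obtain ⟨h1, h2, h3⟩ := mrep_sound (m0 := 79) (inv := 5381825076706105398496393365439695390822816392347292151119926404102975530075676048482267439894910561204322493318345072491623057037460813750783087536761323172684420524720552877937506708947456) (R := Ly.R) ex ones (by decide +kernel)
  obtain ⟨ρ, hρ⟩ := Ly.lift h1 h2
  exact ⟨(Units.coeHom _).comp ρ, fun x a b => by rw [MonoidHom.comp_apply, hρ, h3 x a b]⟩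

/-- The representation. -/
noncomputable def μ : Spor.Ly →* Mx := rep.choose

theorem hμ : ∀ x, 1 ≤ x → x < 79 → μ (Ly.ev x) = P.mat code x := rep.choose_spec

theorem m79 : Mem μ (P.mat code) 79 := Mem.base hμ

theorem m80 : Mem μ (P.mat code) 80 := m79.step (Par.def_of_chk ok d79) (by decide +kernel)

theorem m81 : Mem μ (P.mat code) 81 := m80.step (Par.def_of_chk ok d80) (by decide +kernel)

theorem m82 : Mem μ (P.mat code) 82 := m81.step (Par.def_of_chk ok d81) (by decide +kernel)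

theorem m83 : Mem μ (P.mat code) 83 := m82.step (Par.def_of_chk ok d82) (by decide +kernel)

theorem m84 : Mem μ (P.mat code) 84 := m83.step (Par.def_of_chk ok d83) (by decide +kernel)

theorem m85 : Mem μ (P.mat code) 85 := m84.step (Par.def_of_chk ok d84) (by decide +kernel)

theorem m86 : Mem μ (P.mat code) 86 := m85.step (Par.def_of_chk ok d85) (by decide +kernel)

theorem m87 : Mem μ (P.mat code) 87 := m86.step (Par.def_of_chk ok d86) (by decide +kernel)

theorem m88 : Mem μ (P.mat code) 88 := m87.step (Par.def_of_chk ok d87) (by decide +kernel)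

theorem m89 : Mem μ (P.mat code) 89 := m88.step (Par.def_of_chk ok d88) (by decide +kernel)

theorem m90 : Mem μ (P.mat code) 90 := m89.step (Par.def_of_chk ok d89) (by decide +kernel)

theorem m91 : Mem μ (P.mat code) 91 := m90.step (Par.def_of_chk ok d90) (by decide +kernel)

theorem m92 : Mem μ (P.mat code) 92 := m91.step (Par.def_of_chk ok d91) (by decide +kernel)

theorem m93 : Mem μ (P.mat code) 93 := m92.step (Par.def_of_chk ok d92) (by decide +kernel)

theorem m94 : Mem μ (P.mat code) 94 := m93.step (Par.def_of_chk ok d93) (by decide +kernel)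

theorem m95 : Mem μ (P.mat code) 95 := m94.step (Par.def_of_chk ok d94) (by decide +kernel)

theorem m96 : Mem μ (P.mat code) 96 := m95.step (Par.def_of_chk ok d95) (by decide +kernel)

theorem m97 : Mem μ (P.mat code) 97 := m96.inv (Par.one_of_chk ok (by decide) d96) (by decide +kernel)

theorem m98 : Mem μ (P.mat code) 98 := m97.step (Par.def_of_chk ok d97) (by decide +kernel)

theorem m99 : Mem μ (P.mat code) 99 := m98.step (Par.def_of_chk ok d98) (by decide +kernel)

theorem m100 : Mem μ (P.mat code) 100 := m99.inv (Par.one_of_chk ok (by decide) d99) (by decide +kernel)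

theorem m101 : Mem μ (P.mat code) 101 := m100.step (Par.def_of_chk ok d100) (by decide +kernel)

theorem m102 : Mem μ (P.mat code) 102 := m101.step (Par.def_of_chk ok d101) (by decide +kernel)

theorem m103 : Mem μ (P.mat code) 103 := m102.inv (Par.one_of_chk ok (by decide) d102) (by decide +kernel)

theorem m104 : Mem μ (P.mat code) 104 := m103.step (Par.def_of_chk ok d103) (by decide +kernel)

theorem m105 : Mem μ (P.mat code) 105 := m104.step (Par.def_of_chk ok d104) (by decide +kernel)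

theorem m106 : Mem μ (P.mat code) 106 := m105.inv (Par.one_of_chk ok (by decide) d105) (by decide +kernel)

theorem m107 : Mem μ (P.mat code) 107 := m106.step (Par.def_of_chk ok d106) (by decide +kernel)

theorem m108 : Mem μ (P.mat code) 108 := m107.step (Par.def_of_chk ok d107) (by decide +kernel)

theorem m109 : Mem μ (P.mat code) 109 := m108.step (Par.def_of_chk ok d108) (by decide +kernel)

theorem m110 : Mem μ (P.mat code) 110 := m109.inv (Par.one_of_chk ok (by decide) d109) (by decide +kernel)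

theorem m111 : Mem μ (P.mat code) 111 := m110.step (Par.def_of_chk ok d110) (by decide +kernel)

theorem m112 : Mem μ (P.mat code) 112 := m111.step (Par.def_of_chk ok d111) (by decide +kernel)

theorem m113 : Mem μ (P.mat code) 113 := m112.step (Par.def_of_chk ok d112) (by decide +kernel)

theorem m114 : Mem μ (P.mat code) 114 := m113.step (Par.def_of_chk ok d113) (by decide +kernel)

theorem m115 : Mem μ (P.mat code) 115 := m114.step (Par.def_of_chk ok d114) (by decide +kernel)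

theorem m116 : Mem μ (P.mat code) 116 := m115.inv (Par.one_of_chk ok (by decide) d115) (by decide +kernel)

theorem m117 : Mem μ (P.mat code) 117 := m116.step (Par.def_of_chk ok d116) (by decide +kernel)

theorem m118 : Mem μ (P.mat code) 118 := m117.step (Par.def_of_chk ok d117) (by decide +kernel)

theorem m119 : Mem μ (P.mat code) 119 := m118.step (Par.def_of_chk ok d118) (by decide +kernel)

theorem m120 : Mem μ (P.mat code) 120 := m119.step (Par.def_of_chk ok d119) (by decide +kernel)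

theorem m121 : Mem μ (P.mat code) 121 := m120.inv (Par.one_of_chk ok (by decide) d120) (by decide +kernel)

theorem m122 : Mem μ (P.mat code) 122 := m121.step (Par.def_of_chk ok d121) (by decide +kernel)

theorem m123 : Mem μ (P.mat code) 123 := m122.step (Par.def_of_chk ok d122) (by decide +kernel)

theorem m124 : Mem μ (P.mat code) 124 := m123.step (Par.def_of_chk ok d123) (by decide +kernel)

theorem m125 : Mem μ (P.mat code) 125 := m124.step (Par.def_of_chk ok d124) (by decide +kernel)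

theorem m126 : Mem μ (P.mat code) 126 := m125.inv (Par.one_of_chk ok (by decide) d125) (by decide +kernel)

theorem m127 : Mem μ (P.mat code) 127 := m126.step (Par.def_of_chk ok d126) (by decide +kernel)

theorem m128 : Mem μ (P.mat code) 128 := m127.step (Par.def_of_chk ok d127) (by decide +kernel)

theorem m129 : Mem μ (P.mat code) 129 := m128.step (Par.def_of_chk ok d128) (by decide +kernel)

theorem m130 : Mem μ (P.mat code) 130 := m129.step (Par.def_of_chk ok d129) (by decide +kernel)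

theorem m131 : Mem μ (P.mat code) 131 := m130.inv (Par.one_of_chk ok (by decide) d130) (by decide +kernel)

theorem m132 : Mem μ (P.mat code) 132 := m131.step (Par.def_of_chk ok d131) (by decide +kernel)

theorem m133 : Mem μ (P.mat code) 133 := m132.step (Par.def_of_chk ok d132) (by decide +kernel)

theorem m134 : Mem μ (P.mat code) 134 := m133.step (Par.def_of_chk ok d133) (by decide +kernel)

theorem m135 : Mem μ (P.mat code) 135 := m134.step (Par.def_of_chk ok d134) (by decide +kernel)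

theorem m136 : Mem μ (P.mat code) 136 := m135.inv (Par.one_of_chk ok (by decide) d135) (by decide +kernel)

theorem m137 : Mem μ (P.mat code) 137 := m136.inv (Par.one_of_chk ok (by decide) d136) (by decide +kernel)

theorem m138 : Mem μ (P.mat code) 138 := m137.step (Par.def_of_chk ok d137) (by decide +kernel)

theorem m139 : Mem μ (P.mat code) 139 := m138.inv (Par.one_of_chk ok (by decide) d138) (by decide +kernel)

theorem m140 : Mem μ (P.mat code) 140 := m139.step (Par.def_of_chk ok d139) (by decide +kernel)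

theorem m141 : Mem μ (P.mat code) 141 := m140.step (Par.def_of_chk ok d140) (by decide +kernel)

theorem mem : Mem (kq μ) (P.mat code) 141 := m141.kq

theorem lab11 : Lab (rAct (kq μ) (Fin 1)) (fun x => ev2 (kq μ) (P.mat code) (nthN [0,90] x)) (fun p => P.dec 1 (g11 p)) tab11 11 2 :=
  Par.lab ok mem (by decide +kernel) (allR_range l11_0 (by norm_num : 0 + 11 = 11))

theorem dv11 : 11 ∣ Nat.card (Spor.Ly ⧸ μ.ker) :=
  Dvd.dvd.trans (Dvd.dvd.trans (by decide +kernel) (lab11.dvd v11_0 (one_dvd _))) (Subgroup.card_subgroup_dvd_card _)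

theorem lab37 : Lab (rAct (kq μ) (Fin 1)) (fun x => ev2 (kq μ) (P.mat code) (nthN [0,91] x)) (fun p => P.dec 1 (g37 p)) tab37 37 2 :=
  Par.lab ok mem (by decide +kernel) (allR_range l37_0 (by norm_num : 0 + 37 = 37))

theorem dv37 : 37 ∣ Nat.card (Spor.Ly ⧸ μ.ker) :=
  Dvd.dvd.trans (Dvd.dvd.trans (by decide +kernel) (lab37.dvd v37_0 (one_dvd _))) (Subgroup.card_subgroup_dvd_card _)

theorem lab67 : Lab (rAct (kq μ) (Fin 1)) (fun x => ev2 (kq μ) (P.mat code) (nthN [0,79] x)) (fun p => P.dec 1 (g67 p)) tab67 67 2 :=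
  Par.lab ok mem (by decide +kernel) (allR_range l67_0 (by norm_num : 0 + 67 = 67))

theorem dv67 : 67 ∣ Nat.card (Spor.Ly ⧸ μ.ker) :=
  Dvd.dvd.trans (Dvd.dvd.trans (by decide +kernel) (lab67.dvd v67_0 (one_dvd _))) (Subgroup.card_subgroup_dvd_card _)

theorem lab2 : Lab (rAct (kq μ) (Fin 1)) (fun x => ev2 (kq μ) (P.mat code) (nthN [0,104,108,110] x)) (fun p => P.dec 1 (g2 p)) tab2 42 4 :=
  Par.lab ok mem (by decide +kernel) (allR_range l2_0 (by norm_num : 0 + 42 = 42))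

theorem dv2 : 256 ∣ Nat.card (Spor.Ly ⧸ μ.ker) :=
  Dvd.dvd.trans (Dvd.dvd.trans (by decide +kernel) (lab2.dvd v2_0 (lab2.dvd v2_1 (lab2.dvd v2_2 (lab2.dvd v2_3 (lab2.dvd v2_4 (lab2.dvd v2_5 (lab2.dvd v2_6 (one_dvd _))))))))) (Subgroup.card_subgroup_dvd_card _)

theorem lab3 : Lab (rAct (kq μ) (Fin 1)) (fun x => ev2 (kq μ) (P.mat code) (nthN [0,137,139,140] x)) (fun p => P.dec 1 (g3 p)) tab3 57 4 :=
  Par.lab ok mem (by decide +kernel) (allR_range l3_0 (by norm_num : 0 + 57 = 57))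

theorem dv3 : 2187 ∣ Nat.card (Spor.Ly ⧸ μ.ker) :=
  Dvd.dvd.trans (Dvd.dvd.trans (by decide +kernel) (lab3.dvd v3_0 (lab3.dvd v3_1 (lab3.dvd v3_2 (lab3.dvd v3_3 (lab3.dvd v3_4 (one_dvd _))))))) (Subgroup.card_subgroup_dvd_card _)

theorem powx (hi : Function.Injective μ) : evL Ly.ev [5,77,5,3,7] ^ 67 = 1 :=
  ex.pow hμ hi (a := 79) (Par.one_of_chk ok (by decide) px) (by decide +kernel)

theorem kill (hi : Function.Injective μ) (N : Subgroup Spor.Ly) [N.Normal] (h : evL Ly.ev [5,77,5,3,7] ∈ N) :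
    ∀ t ∈ ([[1], [3], [5], [7], [77]] : List (List ℕ)), evL Ly.ev t ∈ N := by
  have h0 := ex.kil Ly.hev hμ hi h [] [5] (a := 80) (k := 22) (b := 5) (o := 5)
    (Par.one_of_chk ok (by decide) pa0) (Par.one_of_chk ok (by decide) pb0) (by decide +kernel)
  have h1 := ex.kil Ly.hev hμ hi h [] [1] (a := 81) (k := 33) (b := 1) (o := 8)
    (Par.one_of_chk ok (by decide) pa1) (Par.one_of_chk ok (by decide) pb1) (by decide +kernel)
  have h2 := ex.kil Ly.hev hμ hi h1 [] [3] (a := 82) (k := 4) (b := 3) (o := 5)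
    (Par.one_of_chk ok (by decide) pa2) (Par.one_of_chk ok (by decide) pb2) (by decide +kernel)
  have h3 := ex.kil Ly.hev hμ hi h [71] [7] (a := 83) (k := 7) (b := 7) (o := 4)
    (Par.one_of_chk ok (by decide) pa3) (Par.one_of_chk ok (by decide) pb3) (by decide +kernel)
  have h4 := ex.kil Ly.hev hμ hi h3 [50] [77] (a := 84) (k := 9) (b := 77) (o := 8)
    (Par.one_of_chk ok (by decide) pa4) (Par.one_of_chk ok (by decide) pb4) (by decide +kernel)
  exact (List.forall_mem_cons.mpr ⟨h1, (List.forall_mem_cons.mpr ⟨h2, (List.forall_mem_cons.mpr ⟨h0, (List.forall_mem_cons.mpr ⟨h3, (List.forall_mem_cons.mpr ⟨h4, (by simp)⟩)⟩)⟩)⟩)⟩)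

theorem ne1 : μ (Ly.ev 1) ≠ 1 := by
  rw [hμ 1 (by norm_num) (by norm_num)]
  exact Par.mat_ne_one (i := 0) (j := 1) (by decide +kernel)

theorem dv (h : 5859000000 ∣ Nat.card (Spor.Ly ⧸ μ.ker)) : 51765179004000000 ∣ Nat.card (Spor.Ly ⧸ μ.ker) :=
  Dvd.dvd.trans (by decide +kernel) (Nat.lcm_dvd dv2 (Nat.lcm_dvd dv3 (Nat.lcm_dvd h
    (Nat.lcm_dvd dv11 (Nat.lcm_dvd dv37 dv67)))))


end Cfsg.H6.Ly.M
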